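import Groth.Agent.CurvSt.K316.MbarAlg
import Groth.Agent.CurvSt.K902.CurvRows
import Groth.Agent.AlgSt.K738.Sep2
import Groth.Agent.CurvSt.K740.CurvAlgFin

/-!
# Smoothness of the stack of smooth curves
-/

set_option autoImplicit false

universe u

open CategoryTheory CategoryTheory.Limits AlgebraicGeometry

namespace K679.MgnSmooth

open CurvSt AlgSp

/-- **The stack of smooth curves of genus `g ≥ 2` is smooth over the base.** -/
theorem locQ_smooth_mgn (S : Scheme.{u}) {g : ℕ} (hg : 3 ≤ 2 * g + 0) :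
    AlgSt.LocQ (AlgSp.LocP @Smooth) (FibCat.toSelf (CurvSt.Mgn S g 0)) := by
  refine (K738.Sep.locQ_toSelf_iff (K316.MbarAlg.isEquivOver_mgn S hg)).2 ?_
  exact K902.SmStack.main K359.SynLift.main (K902.EtSchFin.hLoc S) (K740.CurvAlg.isAlgStack_curves S 0)
    (K740.CurvAlg.locQ_lfp_toSelf S 0) (K316.MbarAlg.openLocus_smooth S g 0)
    (fun A hA => K902.CurvRows.isLCIMor_of_smooth A hA.1) (fun A hA => K902.CurvRows.finite_of_smooth A hA.1)

end K679.MgnSmooth
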